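import Groth.Prelude.Def_HRes
import Groth.Prelude.Def_CGrpSh2
import Mathlib.RingTheory.RegularLocalRing.Defs
import Groth.Agent.MultTori.K574.GmInj
import Groth.Agent.TateLoc.K810.GmIso
import Groth.Agent.TateGlob.K827.Abs
import Groth.Agent.S0065
import Groth.Agent.S2821

/-!
# `H²_fppf(X, G_m) → H²_fppf(K(X), G_m)` is injective for a regular integral noetherian scheme

`gmInj`: the wrapper of `K574.GmInj.main` at the single generic point, for the big fppf site.
-/

set_option autoImplicit false

universe u

open CategoryTheory CategoryTheory.Limits AlgebraicGeometry Opposite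

namespace K616.GmInj

open Groth.Agent.CohtopA.GmDivGen in
theorem elf (X : Scheme.{u}) [IsLocallyNoetherian X]
    (hreg : ∀ x : ↥X, IsRegularLocalRing (X.presheaf.stalk x)) : ELF X where
  lf U := by
    have hU : Etale (X := U.left) (Y := X) U.hom := U.prop
    have h : ∀ u : U.left, IsRegularLocalRing (U.left.presheaf.stalk u) := fun u =>
      (Groth.Agent.S0065.result (X := U.left) (Y := X) U.hom u).2 (hreg _)
    exact
      { noeth := LocallyOfFiniteType.isLocallyNoetherian (X := U.left) (Y := X) U.hom
        dom := fun u => have := h u; (Groth.Agent.S2821.result _).1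
        ufd := fun u => have := h u; (Groth.Agent.S2821.result _).2 }

/-- vanishing of the restriction to `T` implies the vanishing of the restriction to every `T' ⟶ T` -/
theorem pull_eq_zero {K : Precoverage Scheme.{u}} {S T T' : Scheme.{u}} (f : T ⟶ S) (g : T' ⟶ T) (h : T' ⟶ S)
    (w : g ≫ f = h) (F : BigSite.Ab K S) (n : ℕ) (x : BigSite.H K S F n) (hx : HRes.pull K f F n x = 0) :
    HRes.pull K h F n x = 0 := by
  have h1 := K827.Abs.resHU_res n F (Over.homMk g w : Over.mk h ⟶ Over.mk f) x
  have h2 : HRes.res K F n (Over.mk f) x = 0 := hx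
  rw [h2, map_zero] at h1
  exact h1.symm

/-- `H²_fppf(X, G_m) → H²_fppf(K(X), G_m)` is injective for a regular integral noetherian scheme. -/
theorem gmInj (X : Scheme.{u}) [IsNoetherian X] [IsIntegral X]
    (hreg : ∀ x : X, IsRegularLocalRing (X.presheaf.stalk x)) :
    Function.Injective (HRes.pull Scheme.fppfPrecoverage (X.fromSpecStalk (genericPoint X))
      (CGrpSh2.Gm Scheme.fppfPrecoverage X) 2) := by
  have hE := elf X hreg
  rw [injective_iff_map_eq_zero]
  intro y hy
  have h1 : Sheaf.H.map (K810.GmIso.isoF X).hom 2 y = 0 := by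
    apply K574.GmInj.main X
    rintro ⟨η, hη⟩
    obtain rfl : genericPoint X = η := hη.eq_of_specializes (genericPoint_specializes η)
    refine pull_eq_zero (X.fromSpecStalk (genericPoint X)) (Spec.map (X.residue (genericPoint X))) _
      (by rfl) _ 2 _ ?_
    rw [HRes.pull_map, hy, map_zero]
  have h2 : Sheaf.H.map (K810.GmIso.isoF X).inv 2 (Sheaf.H.map (K810.GmIso.isoF X).hom 2 y) = y := by
    rw [← Sheaf.H.map_comp_apply, Iso.hom_inv_id, Sheaf.H.map_id_apply]
  rw [← h2, h1, map_zero]

end K616.GmInj
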